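import Groth.Agent.H4LC.LC
import Mathlib.Algebra.Homology.DerivedCategory.Ext.ExactSequences
import Mathlib.Algebra.Category.ModuleCat.Projective

/-!
# Above the cohomological dimension the transition maps kill `Ext`
-/

set_option autoImplicit false
set_option linter.style.haveILetI false
universe u

open CategoryTheory CategoryTheory.Limits CategoryTheory.Abelian Opposite

namespace Groth.Agent.H4CdExt

variable {A : Type u} [CommRing A]

theorem exists_universal (X : ModuleCat.{u} A) : ∀ k : ℕ, ∃ (Ω : ModuleCat.{u} A) (c : Ext X Ω k),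
    ∀ (N : ModuleCat.{u} A) (i j : ℕ) (h : k + j = i) (z : Ext X N i), ∃ w : Ext Ω N j, c.comp w h = z
  | 0 => ⟨X, Ext.mk₀ (𝟙 X), fun N i j h z => by
      obtain rfl : j = i := by omega
      exact ⟨z, Ext.mk₀_id_comp z⟩⟩
  | k + 1 => by
    obtain ⟨Ω, c, hc⟩ := exists_universal X k
    let S : ShortComplex (ModuleCat.{u} A) := ShortComplex.mk (kernel.ι (Projective.π Ω)) (Projective.π Ω)
      (kernel.condition _)
    have hS : S.ShortExact := { exact := ShortComplex.exact_kernel _ }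
    refine ⟨S.X₁, c.comp hS.extClass rfl, fun N i j h z => ?_⟩
    obtain ⟨w, hw⟩ := hc N i (1 + j) (by omega) z
    haveI : Subsingleton (Ext S.X₂ N (1 + j)) := by
      rw [add_comm]
      exact Ext.subsingleton_of_projective _ _ _
    obtain ⟨w', hw'⟩ := Ext.contravariant_sequence_exact₃ hS N w (Subsingleton.elim _ _) (n₀ := j) rfl
    refine ⟨w', ?_⟩
    rw [← hw, ← hw']
    exact Ext.comp_assoc _ _ _ rfl rfl (by omega)

theorem exists_kill [IsNoetherianRing A] (I : Ideal A) (e : ℕ) (he : LocCoh.CdLE A I e) (n : ℕ) :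
    ∃ (m : ℕ) (hm : n < m), ∀ (N : ModuleCat.{u} A) (i : ℕ), e < i →
      ∀ z : Ext ((H4LC.quotSys I).obj (op n)) N i,
        (Ext.mk₀ (H4LC.tr (H4LC.quotSys I) (Nat.le_of_lt hm))).comp z (zero_add i) = 0 := by
  obtain ⟨Ω, c, hc⟩ := exists_universal ((H4LC.quotSys I).obj (op n)) (e + 1)
  have h0 : H4LC.ι (H4LC.quotSys I) (e + 1) Ω n c = 0 :=
    @Subsingleton.elim _ (he Ω (e + 1) (Nat.lt_succ_self e)) _ _
  obtain ⟨m, hnm, hm⟩ := (H4LC.ι_eq_zero_iff _ _ _ c).1 h0
  refine ⟨m + 1, Nat.lt_succ_of_le hnm, fun N i hi z => ?_⟩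
  obtain ⟨j, rfl⟩ := Nat.exists_eq_add_of_le (show e + 1 ≤ i by omega)
  obtain ⟨w, rfl⟩ := hc N (e + 1 + j) j rfl z
  have htr : H4LC.tr (H4LC.quotSys I) (Nat.le_of_lt (Nat.lt_succ_of_le hnm)) =
      H4LC.tr (H4LC.quotSys I) (Nat.le_succ m) ≫ H4LC.tr (H4LC.quotSys I) hnm := by
    rw [← Functor.map_comp]
    rfl
  rw [← Ext.comp_assoc (Ext.mk₀ _) c w (zero_add _) rfl (by omega), htr, ← Ext.mk₀_comp_mk₀_assoc, hm,
    Ext.comp_zero, Ext.zero_comp]

end Groth.Agent.H4CdExt
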